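import Mathlib

/-!
# Counting coprime pairs (binary quadratic form, binary form of degree n) over a finite field
-/

universe u

namespace ResHypLib

open Polynomial

variable {F : Type u} [Field F]

/-- The polynomial of a coefficient vector. -/
noncomputable def poly {k : ℕ} (a : Fin k → F) : F[X] := ∑ i : Fin k, C (a i) * X ^ (i : ℕ)

theorem coeff_poly {k : ℕ} (a : Fin k → F) (j : ℕ) :
    (poly a).coeff j = if h : j < k then a ⟨j, h⟩ else 0 := by
  rw [poly, finsetSum_coeff]
  simp only [coeff_C_mul, coeff_X_pow, mul_ite, mul_one, mul_zero]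
  split_ifs with h
  · rw [Finset.sum_eq_single ⟨j, h⟩]
    · simp
    · intro b _ hb
      rw [if_neg]
      intro e
      exact hb (Fin.ext e.symm)
    · simp
  · refine Finset.sum_eq_zero fun b _ => ?_
    rw [if_neg]
    intro e
    exact h (e ▸ b.2)

theorem natDegree_poly {k : ℕ} (a : Fin (k + 1) → F) : (poly a).natDegree ≤ k := by
  rw [natDegree_le_iff_coeff_eq_zero]
  intro j hj
  rw [coeff_poly, dif_neg (by omega)]

theorem poly_smul {k : ℕ} (c : F) (a : Fin k → F) : poly (c • a) = C c * poly a := by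
  simp [poly, Finset.mul_sum, mul_assoc]

theorem poly_add {k : ℕ} (a b : Fin k → F) : poly (a + b) = poly a + poly b := by
  simp [poly, add_mul, Finset.sum_add_distrib]

theorem poly_three (a : Fin 3 → F) : poly a = C (a 0) + C (a 1) * X + C (a 2) * X ^ 2 := by
  simp [poly, Fin.sum_univ_three]

/-- The resultant of a quadratic with a linear form. -/
theorem resultant_two_one (a : Fin 3 → F) (r₀ r₁ : F) :
    resultant (poly a) (C r₀ + C r₁ * X) 2 1 = a 2 * r₀ ^ 2 - a 1 * r₀ * r₁ + a 0 * r₁ ^ 2 := by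
  by_cases h : r₁ = 0
  · subst h
    rw [map_zero, zero_mul, add_zero, resultant_C_right]
    simp [coeff_poly]
  · have e : C r₀ + C r₁ * X = C r₁ * (X + C (r₀ / r₁)) := by
      rw [mul_add, ← C_mul, mul_div_cancel₀ _ h]; ring
    rw [e, resultant_C_mul_right, resultant_X_add_C_right _ _ _ (natDegree_poly a), poly_three]
    simp only [eval_add, eval_mul, eval_C, eval_X, eval_pow]
    field_simp
    ring

/-- The monic quadratic proportional to `a`. -/
noncomputable def monicQuad (a : Fin 3 → F) : F[X] := C (a 2)⁻¹ * poly a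

theorem natDegree_quad {a : Fin 3 → F} (h : a 2 ≠ 0) : (poly a).natDegree = 2 :=
  le_antisymm (natDegree_poly a) (le_natDegree_of_ne_zero (by simpa [coeff_poly] using h))

theorem monic_monicQuad {a : Fin 3 → F} (h : a 2 ≠ 0) : (monicQuad a).Monic := by
  rw [monicQuad, Monic, leadingCoeff_mul, leadingCoeff_C, leadingCoeff, natDegree_quad h, coeff_poly]
  exact inv_mul_cancel₀ h

theorem natDegree_monicQuad {a : Fin 3 → F} (h : a 2 ≠ 0) : (monicQuad a).natDegree = 2 := by
  rw [monicQuad, natDegree_C_mul (inv_ne_zero h), natDegree_quad h]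

variable (n : ℕ)

/-- The condition on the reduced pair. -/
def Cond (a : Fin 3 → F) (r : F × F) : Prop :=
  (a 2 ≠ 0 ∧ a 2 * r.1 ^ 2 - a 1 * r.1 * r.2 + a 0 * r.2 ^ 2 ≠ 0) ∨
    (a 2 = 0 ∧ a 1 ≠ 0 ∧ r.1 ≠ 0 ∧ r.2 ≠ 0) ∨ (a 2 = 0 ∧ a 1 = 0 ∧ a 0 ≠ 0 ∧ r.1 ≠ 0)

theorem exists_reduction (h2 : 2 ≤ n) (a : Fin 3 → F) :
    ∃ L : (Fin (n + 1) → F) →ₗ[F] F × F, Function.Surjective L ∧
      ∀ g, resultant (poly a) (poly g) 2 n ≠ 0 ↔ Cond a (L g) := by
  have h0n : (⟨0, by omega⟩ : Fin (n + 1)) ≠ ⟨n, by omega⟩ := by simp [Fin.ext_iff]; omega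
  by_cases ha2 : a 2 = 0
  · let L : (Fin (n + 1) → F) →ₗ[F] F × F :=
      { toFun := fun g => ((poly g).coeff n, eval (-a 0 / a 1) (poly g))
        map_add' := fun g g' => by simp [poly_add]
        map_smul' := fun c g => by simp [poly_smul] }
    refine ⟨L, ?_, fun g => ?_⟩
    · rintro ⟨x, y⟩
      refine ⟨Pi.single ⟨n, by omega⟩ x + Pi.single ⟨0, by omega⟩ (y - x * (-a 0 / a 1) ^ n), ?_⟩
      have hs : ∀ (j : Fin (n + 1)) (c : F), poly (Pi.single j c) = C c * X ^ (j : ℕ) := fun j c => by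
        rw [poly, Finset.sum_eq_single j] <;> simp +contextual
      simp only [L, LinearMap.coe_mk, AddHom.coe_mk, poly_add, hs]
      simp [show n ≠ 0 by omega, coeff_C, ← map_pow]
    · have hd : (poly a).natDegree ≤ 1 := by
        rw [natDegree_le_iff_coeff_eq_zero]
        intro j hj
        rw [coeff_poly]
        split_ifs with h
        · obtain rfl : j = 2 := by omega
          exact ha2
        · rfl
      rw [show (2 : ℕ) = 1 + 1 from rfl, resultant_succ_left_deg _ _ _ _ hd]
      by_cases ha1 : a 1 = 0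
      · have hf : poly a = C (a 0) := by simp [poly_three, ha1, ha2]
        have hcoef : eval (-a 0 / a 1) (poly g) = (poly g).coeff 0 := by
          simp [ha1, coeff_zero_eq_eval_zero]
        rw [hf, resultant_C_left]
        simp [Cond, L, ha1, ha2, show n ≠ 0 by omega, and_comm]
      · have hf : poly a = C (a 1) * (X - C (-a 0 / a 1)) := by
          rw [poly_three, ha2, map_zero, zero_mul, add_zero, mul_sub, ← C_mul,
            mul_div_cancel₀ _ ha1]
          simp; ring
        rw [hf, resultant_C_mul_left, resultant_X_sub_C_left _ _ _ (natDegree_poly g)]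
        simp [Cond, L, ha1, ha2]
  · let L : (Fin (n + 1) → F) →ₗ[F] F × F :=
      { toFun := fun g => ((poly g %ₘ monicQuad a).coeff 0, (poly g %ₘ monicQuad a).coeff 1)
        map_add' := fun g g' => by simp [poly_add, add_modByMonic]
        map_smul' := fun c g => by simp [poly_smul, ← smul_eq_C_mul, smul_modByMonic] }
    refine ⟨L, ?_, fun g => ?_⟩
    · rintro ⟨x, y⟩
      refine ⟨Pi.single ⟨0, by omega⟩ x + Pi.single ⟨1, by omega⟩ y, ?_⟩
      have hs : ∀ (j : Fin (n + 1)) (c : F), poly (Pi.single j c) = C c * X ^ (j : ℕ) := fun j c => by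
        rw [poly, Finset.sum_eq_single j] <;> simp +contextual
      simp only [L, LinearMap.coe_mk, AddHom.coe_mk, poly_add, hs]
      rw [(modByMonic_eq_self_iff (monic_monicQuad ha2)).2]
      · simp
      · rw [degree_eq_natDegree (monic_monicQuad ha2).ne_zero, natDegree_monicQuad ha2]
        refine lt_of_le_of_lt (degree_le_of_natDegree_le (n := 1) ?_) (by exact_mod_cast Nat.lt_succ_self 1)
        simp only [pow_zero, mul_one, pow_one]
        rw [add_comm]
        exact natDegree_linear_le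
    · set R := poly g %ₘ monicQuad a with hR
      have hRd : R.natDegree ≤ 1 := by
        have := natDegree_modByMonic_lt (poly g) (monic_monicQuad ha2) (by
          intro h
          have := natDegree_monicQuad ha2
          rw [h, natDegree_one] at this
          omega)
        rw [natDegree_monicQuad ha2] at this
        rw [hR]; omega
      have hsplit : poly g = R + poly a * (C (a 2)⁻¹ * (poly g /ₘ monicQuad a)) := by
        conv_lhs => rw [← modByMonic_add_div (poly g) (monicQuad a)]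
        rw [hR, monicQuad]; ring
      have hqd : (C (a 2)⁻¹ * (poly g /ₘ monicQuad a)).natDegree + 2 ≤ n := by
        rw [natDegree_C_mul (inv_ne_zero ha2), natDegree_divByMonic _ (monic_monicQuad ha2),
          natDegree_monicQuad ha2]
        have := natDegree_poly g
        omega
      have hres := resultant_add_right_deg (poly a) R 2 1 (n - 1) hRd
      rw [show 1 + (n - 1) = n by omega] at hres
      rw [hsplit, resultant_add_mul_right _ _ _ _ _ hqd (natDegree_poly a), hres]
      have hlin : R = C (R.coeff 0) + C (R.coeff 1) * X := by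
        conv_lhs => rw [eq_X_add_C_of_natDegree_le_one hRd]
        ring
      rw [hlin, resultant_two_one]
      simp [Cond, L, ha2, coeff_poly, hR]

variable [Fintype F]

theorem natCard_subtype_comp {V W : Type u} [AddCommGroup V] [Module F V] [AddCommGroup W]
    [Module F W] (L : V →ₗ[F] W) (hL : Function.Surjective L) (P : W → Prop) :
    Nat.card {v : V // P (L v)} = Nat.card (LinearMap.ker L) * Nat.card {w : W // P w} := by
  obtain ⟨s, hs⟩ := L.exists_rightInverse_of_surjective (LinearMap.range_eq_top.2 hL)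
  have hs' : ∀ w, L (s w) = w := fun w => LinearMap.congr_fun hs w
  rw [← Nat.card_prod]
  refine Nat.card_congr
    { toFun := fun v => (⟨v.1 - s (L v.1), by simp [hs']⟩, ⟨L v.1, v.2⟩)
      invFun := fun x => ⟨x.1.1 + s x.2.1, by
        rw [map_add, hs', LinearMap.mem_ker.1 x.1.2, zero_add]; exact x.2.2⟩
      left_inv := fun v => by ext; simp
      right_inv := fun x => by
        have h : L (x.1.1 + s x.2.1) = x.2.1 := by
          rw [map_add, hs', LinearMap.mem_ker.1 x.1.2, zero_add]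
        apply Prod.ext <;> apply Subtype.ext <;> simp [h] }

theorem natCard_fibre (h2 : 2 ≤ n) (a : Fin 3 → F) :
    Nat.card {g : Fin (n + 1) → F // resultant (poly a) (poly g) 2 n ≠ 0} =
      Fintype.card F ^ (n - 1) * Nat.card {r : F × F // Cond a r} := by
  obtain ⟨L, hL, hiff⟩ := exists_reduction n h2 a
  rw [Nat.card_congr (Equiv.subtypeEquivRight hiff), natCard_subtype_comp L hL]
  congr 1
  have h := natCard_subtype_comp L hL (fun _ => True)
  rw [Nat.card_congr (Equiv.subtypeUnivEquiv fun _ => trivial),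
    Nat.card_congr (Equiv.subtypeUnivEquiv fun _ => trivial)] at h
  simp only [Nat.card_eq_fintype_card (α := Fin (n + 1) → F), Fintype.card_fun, Fintype.card_fin,
    Nat.card_prod, Nat.card_eq_fintype_card (α := F)] at h
  refine mul_right_cancel₀ (b := Fintype.card F * Fintype.card F) (by simp) ?_
  rw [← h, ← pow_two, ← pow_add]
  congr 1
  omega

open Classical in
theorem sum_ite_ne (c : F) :
    ∑ x : F, (if x ≠ c then (1 : ℤ) else 0) = Fintype.card F - 1 := by
  rw [Finset.sum_boole, Finset.filter_ne', Finset.card_erase_of_mem (Finset.mem_univ c), Finset.card_univ,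
    Nat.cast_sub Fintype.card_pos, Nat.cast_one]

open Classical in
theorem sum_inner (c r₀ r₁ : F) (hc : c ≠ 0) :
    ∑ b : F, ∑ d : F, (if c * r₀ ^ 2 - b * r₀ * r₁ + d * r₁ ^ 2 ≠ 0 then (1 : ℤ) else 0) =
      if r₁ ≠ 0 then Fintype.card F * (Fintype.card F - 1 : ℤ)
      else if r₀ ≠ 0 then (Fintype.card F : ℤ) ^ 2 else 0 := by
  split_ifs with h h'
  · have : ∀ b : F, ∑ d : F, (if c * r₀ ^ 2 - b * r₀ * r₁ + d * r₁ ^ 2 ≠ 0 then (1 : ℤ) else 0) =
        Fintype.card F - 1 := fun b => by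
      rw [← sum_ite_ne (-(c * r₀ ^ 2 - b * r₀ * r₁) / r₁ ^ 2)]
      refine Finset.sum_congr rfl fun d _ => if_congr (not_congr ?_) rfl rfl
      rw [eq_div_iff (pow_ne_zero 2 h), eq_neg_iff_add_eq_zero, add_comm]
    rw [Finset.sum_congr rfl fun b _ => this b]; simp; ring
  · simp [not_not.1 h, hc, h', pow_two]
  · simp [not_not.1 h, not_not.1 h']

open Classical in
theorem sum_cond : ∑ a : Fin 3 → F, (Nat.card {r : F × F // Cond a r} : ℤ) =
    (Fintype.card F : ℤ) ^ 2 * ((Fintype.card F : ℤ) - 1) ^ 2 * ((Fintype.card F : ℤ) + 1) := by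
  set q : ℤ := (Fintype.card F : ℤ) with hq
  let e : F × F × F ≃ (Fin 3 → F) :=
    { toFun := fun x => ![x.2.2, x.2.1, x.1]
      invFun := fun a => (a 2, a 1, a 0)
      left_inv := fun x => rfl
      right_inv := fun a => by funext i; fin_cases i <;> rfl }
  rw [← e.sum_comp]
  simp only [Fintype.sum_prod_type, Nat.card_eq_fintype_card, Fintype.card_subtype, Finset.natCast_card_filter,
    Cond, e, Equiv.coe_fn_mk, Matrix.cons_val_zero, Matrix.cons_val_one, Matrix.cons_val]
  rw [← Finset.add_sum_erase _ _ (Finset.mem_univ (0 : F))]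
  have h1 : ∀ c ∈ Finset.univ.erase (0 : F),
      ∑ b : F, ∑ d : F, ∑ x : F, ∑ y : F,
        (if c * x ^ 2 - b * x * y + d * y ^ 2 ≠ 0 then (1 : ℤ) else 0) = q ^ 3 * (q - 1) := by
    intro c hc
    have hc' : c ≠ 0 := Finset.ne_of_mem_erase hc
    calc _ = ∑ x : F, ∑ b : F, ∑ y : F, ∑ d : F,
          (if c * x ^ 2 - b * x * y + d * y ^ 2 ≠ 0 then (1 : ℤ) else 0) := by
          rw [Finset.sum_comm_cycle]
          exact Finset.sum_congr rfl fun x _ => Finset.sum_congr rfl fun b _ => Finset.sum_comm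
      _ = ∑ x : F, ∑ y : F, (if y ≠ 0 then q * (q - 1) else if x ≠ 0 then q ^ 2 else 0) := by
          refine Finset.sum_congr rfl fun x _ => ?_
          rw [Finset.sum_comm]
          exact Finset.sum_congr rfl fun y _ => sum_inner c x y hc'
      _ = ∑ x : F, ((q - 1) * (q * (q - 1)) + if x ≠ 0 then q ^ 2 else 0) := by
          refine Finset.sum_congr rfl fun x _ => ?_
          rw [← Finset.add_sum_erase _ _ (Finset.mem_univ (0 : F)),
            Finset.sum_congr rfl fun y hy => if_pos (Finset.ne_of_mem_erase hy)]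
          simp [Finset.card_erase_of_mem, Nat.cast_sub Fintype.card_pos, hq]; ring
      _ = _ := by
          have h2 : ∀ x : F, (if x ≠ 0 then q ^ 2 else 0) = q ^ 2 * if x ≠ 0 then 1 else 0 :=
            fun x => by split_ifs <;> simp
          rw [Finset.sum_add_distrib, Finset.sum_congr rfl fun x _ => h2 x, ← Finset.mul_sum (a := q ^ 2), sum_ite_ne]
          simp [hq]; ring
  have h3 : ∀ c ∈ Finset.univ.erase (0 : F), c ≠ 0 := fun c hc => Finset.ne_of_mem_erase hc
  rw [Finset.sum_congr rfl fun c hc => Eq.trans (by simp [h3 c hc]) (h1 c hc)]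
  have hA : ∑ x : F, ∑ y : F, (if x ≠ 0 ∧ y ≠ 0 then (1 : ℤ) else 0) = (q - 1) ^ 2 := by
    have : ∀ x y : F, (if x ≠ 0 ∧ y ≠ 0 then (1 : ℤ) else 0) =
        (if x ≠ 0 then 1 else 0) * if y ≠ 0 then 1 else 0 := fun x y => by
      by_cases x = 0 <;> by_cases y = 0 <;> simp_all
    simp only [this, ← Finset.mul_sum, ← Finset.sum_mul, sum_ite_ne, pow_two, hq]
  have hB : ∑ x : F, ∑ _y : F, (if x ≠ 0 then (1 : ℤ) else 0) = q * (q - 1) := by
    rw [Finset.sum_comm]; simp only [sum_ite_ne]; simp [hq]; ring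
  have hzero : ∀ b d : F, (∑ x : F, ∑ y : F,
      if ((0 : F) ≠ 0 ∧ 0 * x ^ 2 - b * x * y + d * y ^ 2 ≠ 0) ∨
          (True ∧ b ≠ 0 ∧ x ≠ 0 ∧ y ≠ 0) ∨ (True ∧ b = 0 ∧ d ≠ 0 ∧ x ≠ 0) then (1 : ℤ) else 0) =
      if b ≠ 0 then (q - 1) ^ 2 else if d ≠ 0 then q * (q - 1) else 0 := by
    intro b d
    split_ifs with hb hd
    · rw [← hA]; simp [hb]
    · rw [← hB]; simp [not_not.1 hb, hd]
    · simp [not_not.1 hb, not_not.1 hd]
  simp only [hzero]
  rw [← Finset.add_sum_erase _ _ (Finset.mem_univ (0 : F)),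
    Finset.sum_congr rfl fun b hb => Finset.sum_congr rfl fun d _ => if_pos (Finset.ne_of_mem_erase hb)]
  have h4 : ∀ d : F, (if (0 : F) ≠ 0 then (q - 1) ^ 2 else if d ≠ 0 then q * (q - 1) else 0) =
      q * (q - 1) * if d ≠ 0 then 1 else 0 := fun d => by by_cases d = 0 <;> simp_all
  rw [Finset.sum_congr rfl fun d _ => h4 d, ← Finset.mul_sum, sum_ite_ne]
  simp [Finset.card_erase_of_mem, Nat.cast_sub Fintype.card_pos, hq]
  ring

/-- Pairs with nonzero resultant. -/
abbrev Pairs (F : Type u) [Field F] (n : ℕ) (P : F → Prop) :=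
  {p : (Fin 3 → F) × (Fin (n + 1) → F) // P (resultant (poly p.1) (poly p.2) 2 n)}

theorem natCard_ne_zero (h2 : 2 ≤ n) :
    (Nat.card (Pairs F n (· ≠ 0)) : ℤ) =
      (Fintype.card F : ℤ) ^ (n + 1) * ((Fintype.card F : ℤ) - 1) ^ 2 * ((Fintype.card F : ℤ) + 1) := by
  classical
  let e : Pairs F n (· ≠ 0) ≃
      Σ a : Fin 3 → F, {g : Fin (n + 1) → F // resultant (poly a) (poly g) 2 n ≠ 0} :=
    { toFun := fun p => ⟨p.1.1, p.1.2, p.2⟩
      invFun := fun s => ⟨(s.1, s.2.1), s.2.2⟩
      left_inv := fun p => rfl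
      right_inv := fun s => rfl }
  rw [Nat.card_congr e, Nat.card_sigma, Nat.cast_sum]
  simp only [natCard_fibre n h2, Nat.cast_mul, Nat.cast_pow, ← Finset.mul_sum, sum_cond]
  rw [show n + 1 = (n - 1) + 2 by omega, pow_add]
  ring

theorem natCard_eq_one (k : ℕ) :
    Nat.card (Pairs F (2 * k + 1) (· ≠ 0)) =
      (Fintype.card F - 1) * Nat.card (Pairs F (2 * k + 1) (· = 1)) := by
  classical
  rw [show Fintype.card F - 1 = Nat.card {v : F // v ≠ 0} by
    rw [Nat.card_eq_fintype_card, Fintype.card_subtype_compl, Fintype.card_subtype_eq], ← Nat.card_prod]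
  let res : (Fin 3 → F) × (Fin (2 * k + 1 + 1) → F) → F := fun p =>
    resultant (poly p.1) (poly p.2) 2 (2 * k + 1)
  have hres : ∀ (v : F), v ≠ 0 → ∀ p : (Fin 3 → F) × (Fin (2 * k + 1 + 1) → F), res (v • p.1, (v ^ k)⁻¹ • p.2) = v * res p := by
    intro v hv p
    change resultant (poly (v • p.1)) (poly ((v ^ k)⁻¹ • p.2)) 2 (2 * k + 1) =
      v * resultant (poly p.1) (poly p.2) 2 (2 * k + 1)
    rw [poly_smul, poly_smul, resultant_C_mul_left, resultant_C_mul_right]
    rw [inv_pow, ← pow_mul, ← mul_assoc,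
      show k * 2 = 2 * k by ring, pow_succ]
    field_simp
  refine Nat.card_congr
    { toFun := fun p => (⟨res p.1, p.2⟩,
        ⟨((res p.1)⁻¹ • p.1.1, (((res p.1)⁻¹) ^ k)⁻¹ • p.1.2), ?_⟩)
      invFun := fun x => ⟨(x.1.1 • x.2.1.1, (x.1.1 ^ k)⁻¹ • x.2.1.2), ?_⟩
      left_inv := ?_
      right_inv := ?_ }
  · change res _ = 1
    rw [hres _ (inv_ne_zero p.2)]
    exact inv_mul_cancel₀ p.2
  · change res _ ≠ 0
    rw [hres _ x.1.2, show res x.2.1 = 1 from x.2.2, mul_one]
    exact x.1.2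
  · rintro ⟨⟨a, g⟩, hp⟩
    apply Subtype.ext
    simp only [smul_smul]
    have h0 : res (a, g) ≠ 0 := hp
    rw [mul_inv_cancel₀ h0, one_smul, inv_pow, inv_inv, inv_mul_cancel₀ (pow_ne_zero k h0), one_smul]
  · rintro ⟨⟨v, hv⟩, ⟨⟨a, g⟩, hp⟩⟩
    have h1 : res (v • a, (v ^ k)⁻¹ • g) = v := by
      rw [hres v hv (a, g), show res (a, g) = 1 from hp, mul_one]
    apply Prod.ext
    · exact Subtype.ext h1
    · apply Subtype.ext
      simp only [h1, smul_smul]
      rw [inv_mul_cancel₀ hv, one_smul, inv_pow, inv_inv, mul_inv_cancel₀ (pow_ne_zero k hv), one_smul]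

theorem card_resultant_ne_zero (h2 : 2 ≤ n) :
    Nat.card (Pairs F n (· ≠ 0)) = Fintype.card F ^ (n + 4) - Fintype.card F ^ (n + 3) -
      Fintype.card F ^ (n + 2) + Fintype.card F ^ (n + 1) := by
  have h1 : 2 ≤ Fintype.card F := Fintype.one_lt_card
  have ha : Fintype.card F ^ (n + 3) + Fintype.card F ^ (n + 2) ≤ Fintype.card F ^ (n + 4) := by
    calc _ ≤ Fintype.card F ^ (n + 3) + Fintype.card F ^ (n + 3) := by gcongr <;> omega
      _ = Fintype.card F ^ (n + 3) * 2 := by ring
      _ ≤ Fintype.card F ^ (n + 3) * Fintype.card F := Nat.mul_le_mul_left _ h1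
      _ = _ := by rw [← pow_succ]
  rw [← Nat.cast_inj (R := ℤ), natCard_ne_zero n h2, Nat.sub_sub, Nat.cast_add, Nat.cast_sub ha]
  push_cast
  ring

theorem card_resultant_eq_one (hn : Odd n) (h3 : 3 ≤ n) :
    Nat.card (Pairs F n (· = 1)) = Fintype.card F ^ (n + 3) - Fintype.card F ^ (n + 1) := by
  obtain ⟨k, rfl⟩ := hn
  have h1 : 2 ≤ Fintype.card F := Fintype.one_lt_card
  have h := natCard_ne_zero (F := F) (2 * k + 1) (by omega)
  rw [natCard_eq_one k, Nat.cast_mul, Nat.cast_sub (by omega : 1 ≤ Fintype.card F), Nat.cast_one] at h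
  rw [← Nat.cast_inj (R := ℤ), Nat.cast_sub (Nat.pow_le_pow_right (by omega) (by omega))]
  refine mul_left_cancel₀ (sub_ne_zero.2 (by exact_mod_cast (by omega : Fintype.card F ≠ 1)) :
    (Fintype.card F : ℤ) - 1 ≠ 0) ?_
  rw [h]
  push_cast
  ring

end ResHypLib
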